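import Groth.Prelude.Def_W4c1limliniiiiRamP1
import Groth.Agent.Ram9.Main

/-! The involution on separated pencils exchanging the indices `e, f` at two points with `p - e, p - f`. -/

open Polynomial W4c1limliniiii

namespace Groth.Agent.Ram9

universe u
variable {k : Type u} [Field k]

/-- `V'` is the flip of `V` at `a, b`. -/
def Flip (p : ℕ) (a b : k) (ea eb : ℕ) (V V' : Submodule k k[X]) : Prop :=
  ∃ F G : k[X],
    V = Submodule.span k {(X - C a) ^ ea * F, (X - C b) ^ eb * G} ∧
    V' = Submodule.span k {(X - C a) ^ (p - ea) * G, (X - C b) ^ (p - eb) * F}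

theorem Flip.symm {p : ℕ} {a b : k} {ea eb : ℕ} (ha : ea ≤ p) (hb : eb ≤ p) {V V' : Submodule k k[X]}
    (h : Flip p a b ea eb V V') : Flip p a b (p - ea) (p - eb) V' V := by
  obtain ⟨F, G, h1, h2⟩ := h
  exact ⟨G, F, h2, by rwa [Nat.sub_sub_self ha, Nat.sub_sub_self hb]⟩

variable {d n : ℕ} {P : Fin n → k} {e : Fin n → ℕ} {V : Submodule k k[X]} {i j : Fin n}

/-- separation at the two chosen points -/
def Sep (V : Submodule k k[X]) (a b : k) : Prop :=
  ∀ s ∈ V, s.eval a = 0 → s.eval b = 0 → s = 0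

theorem exists_member {a : k} {r : ℕ} (hV : HasRamIdx V a r) (hr : 1 ≤ r) :
    ∃ F : k[X], (X - C a) ^ r * F ∈ V ∧ F.eval a ≠ 0 ∧ F ≠ 0 := by
  obtain ⟨⟨s, hs, hs0, hle⟩, hmax⟩ := hV
  have he : rootMultiplicity a s = r := le_antisymm (hmax s hs hs0) hle
  obtain ⟨F, hF, hFd⟩ := exists_eq_pow_rootMultiplicity_mul_and_not_dvd s hs0 a
  rw [he] at hF
  refine ⟨F, hF ▸ hs, fun h => hFd (dvd_iff_isRoot.2 h), fun h => hs0 (by rw [hF, h, mul_zero])⟩

theorem span_eq (hV : IsPencil d V) {F G : k[X]} (hF : F ∈ V) (hG : G ∈ V) {a : k}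
    (hF0 : F ≠ 0) (hFa : F.eval a = 0) (hGa : G.eval a ≠ 0) :
    Submodule.span k {F, G} = V ∧ ∀ v ∈ V, ∃ x y : k, v = C x * F + C y * G := by
  have : FiniteDimensional k V := Module.finite_of_finrank_eq_succ hV.2.1
  have hli : LinearIndependent k ![F, G] := by
    rw [LinearIndependent.pair_iff]
    intro x y h
    have h1 := congrArg (eval a) h
    simp [hFa, hGa] at h1
    subst h1
    simp [hF0] at h
    exact ⟨h, rfl⟩
  have hsp : Submodule.span k {F, G} = V := by
    refine Submodule.eq_of_le_of_finrank_le (Submodule.span_le.2 ?_) ?_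
    · rintro x (rfl | rfl) <;> assumption
    · rw [hV.2.1]
      have := finrank_span_eq_card hli
      rw [Matrix.range_cons, Matrix.range_cons, Matrix.range_empty, Set.union_empty,
        Set.singleton_union, Fintype.card_fin] at this
      rw [this]
  refine ⟨hsp, fun v hv => ?_⟩
  rw [← hsp, Submodule.mem_span_pair] at hv
  obtain ⟨x, y, rfl⟩ := hv
  exact ⟨x, y, by simp [smul_eq_C_mul]⟩

theorem flip_unique {p : ℕ} {a b : k} (hab : a ≠ b) {ea eb : ℕ} (hea : 1 ≤ ea) (heb : 1 ≤ eb)
    (hra : HasRamIdx V a ea) (hrb : HasRamIdx V b eb) (hV : IsPencil d V) (hsep : Sep V a b)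
    {V1 V2 : Submodule k k[X]} (h1 : Flip p a b ea eb V V1) (h2 : Flip p a b ea eb V V2) :
    V1 = V2 := by
  obtain ⟨F0, hF0, hF0a, hF00⟩ := exists_member hra hea
  obtain ⟨G0, hG0, hG0b, hG00⟩ := exists_member hrb heb
  suffices ∀ W, Flip p a b ea eb V W →
      W = Submodule.span k {(X - C a) ^ (p - ea) * G0, (X - C b) ^ (p - eb) * F0} from
    (this V1 h1).trans (this V2 h2).symm
  rintro W ⟨F, G, hVeq, rfl⟩
  have hA : (X - C a) ^ ea * F0 ≠ 0 := mul_ne_zero (pow_ne_zero _ (X_sub_C_ne_zero a)) hF00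
  have hB : (X - C b) ^ eb * G0 ≠ 0 := mul_ne_zero (pow_ne_zero _ (X_sub_C_ne_zero b)) hG00
  have hAa : ((X - C a) ^ ea * F0).eval a = 0 := by simp [zero_pow (by omega : ea ≠ 0)]
  have hBb : ((X - C b) ^ eb * G0).eval b = 0 := by simp [zero_pow (by omega : eb ≠ 0)]
  have hBa : ((X - C b) ^ eb * G0).eval a ≠ 0 := fun h => hB (hsep _ hG0 h hBb)
  have hAb : ((X - C a) ^ ea * F0).eval b ≠ 0 := fun h => hA (hsep _ hF0 hAa h)
  have hFm : (X - C a) ^ ea * F ∈ V := hVeq ▸ Submodule.subset_span (by simp)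
  have hGm : (X - C b) ^ eb * G ∈ V := hVeq ▸ Submodule.subset_span (by simp)
  obtain ⟨x, y, hxy⟩ := (span_eq hV hF0 hG0 hA hAa hBa).2 _ hFm
  have hy : y = 0 := by
    have := congrArg (eval a) hxy
    have hz : ((X - C a) ^ ea * F).eval a = 0 := by simp [zero_pow (by omega : ea ≠ 0)]
    rw [eval_add, eval_C_mul, eval_C_mul, hAa, mul_zero, zero_add, hz] at this
    exact (mul_eq_zero.1 this.symm).resolve_right hBa
  obtain ⟨x', y', hxy'⟩ := (span_eq hV hG0 hF0 hB hBb hAb).2 _ hGm
  have hy' : y' = 0 := by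
    have := congrArg (eval b) hxy'
    have hz : ((X - C b) ^ eb * G).eval b = 0 := by simp [zero_pow (by omega : eb ≠ 0)]
    rw [eval_add, eval_C_mul, eval_C_mul, hBb, mul_zero, zero_add, hz] at this
    exact (mul_eq_zero.1 this.symm).resolve_right hAb
  have hFx : F = C x * F0 := by
    refine mul_left_cancel₀ (pow_ne_zero ea (X_sub_C_ne_zero a)) ?_
    rw [hxy, hy, map_zero, zero_mul, add_zero]; ring
  have hGx : G = C x' * G0 := by
    refine mul_left_cancel₀ (pow_ne_zero eb (X_sub_C_ne_zero b)) ?_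
    rw [hxy', hy', map_zero, zero_mul, add_zero]; ring
  have hx : x ≠ 0 := by
    rintro rfl
    rw [map_zero, zero_mul] at hFx
    rw [hFx, mul_zero] at hVeq
    obtain ⟨c, hc⟩ := Submodule.mem_span_singleton.1 (show (X - C a) ^ ea * F0 ∈
      Submodule.span k {(X - C b) ^ eb * G} from by
        rw [← Submodule.span_insert_zero, ← hVeq]; exact hF0)
    exact hAb (by rw [← hc, eval_smul, eval_mul]; simp [zero_pow (by omega : eb ≠ 0)])
  have hx' : x' ≠ 0 := by
    rintro rfl
    rw [map_zero, zero_mul] at hGx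
    rw [hGx, mul_zero, Set.pair_comm] at hVeq
    obtain ⟨c, hc⟩ := Submodule.mem_span_singleton.1 (show (X - C b) ^ eb * G0 ∈
      Submodule.span k {(X - C a) ^ ea * F} from by
        rw [← Submodule.span_insert_zero, ← hVeq]; exact hG0)
    exact hBa (by rw [← hc, eval_smul, eval_mul]; simp [zero_pow (by omega : ea ≠ 0)])
  rw [hFx, hGx]
  have hl : ∀ (c : k) (u v : k[X]), u * (C c * v) = c • (u * v) := fun c u v => by
    rw [smul_eq_C_mul]; ring
  rw [hl, hl, Submodule.span_insert, Submodule.span_insert,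
    Submodule.span_singleton_smul_eq hx'.isUnit, Submodule.span_singleton_smul_eq hx.isUnit]

theorem dvd_add_C_mul_pow {p : ℕ} [Fact p.Prime] [CharP k p] (a z : k) :
    (X - C a) ^ p = C ((z - a) ^ p) + (X - C z) ^ p := by
  have : X - C a = C (z - a) + (X - C z) := by rw [map_sub]; ring
  rw [this, add_pow_char, map_pow]

theorem exists_flip {p : ℕ} [Fact p.Prime] [CharP k p] (hV : V ∈ ramMaps d P e)
    (he : ∀ l, 1 ≤ e l ∧ e l < p) (hij : i ≠ j) (hP : Function.Injective P)
    (hsep : Sep V (P i) (P j)) :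
    ∃ V', Flip p (P i) (P j) (e i) (e j) V V' ∧ V' ∈ ramMaps (d + p - e i - e j) P
      (Function.update (Function.update e i (p - e i)) j (p - e j)) := by
  obtain ⟨hpen, -, hram⟩ := hV
  have hei := he i
  have hej := he j
  have hab : P i ≠ P j := hP.ne hij
  obtain ⟨F, hFm, hFa, hF0⟩ := exists_member (hram i) hei.1
  obtain ⟨G, hGm, hGb, hG0⟩ := exists_member (hram j) hej.1
  set a := P i
  set b := P j
  set A := (X - C a) ^ (p - e i) * G with hA
  set B := (X - C b) ^ (p - e j) * F with hB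
  have hne : ∀ (c : k) (r : ℕ), (X - C c) ^ r ≠ 0 := fun c r => pow_ne_zero _ (X_sub_C_ne_zero c)
  have hA0 : A ≠ 0 := mul_ne_zero (hne _ _) hG0
  have hB0 : B ≠ 0 := mul_ne_zero (hne _ _) hF0
  have hFa0 : ((X - C a) ^ e i * F).eval a = 0 := by simp [zero_pow (by omega : e i ≠ 0)]
  have hGb0 : ((X - C b) ^ e j * G).eval b = 0 := by simp [zero_pow (by omega : e j ≠ 0)]
  have hGa : G.eval a ≠ 0 := fun h => mul_ne_zero (hne _ _) hG0
    (hsep _ hGm (by simp [h]) hGb0)
  have hFb : F.eval b ≠ 0 := fun h => mul_ne_zero (hne _ _) hF0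
    (hsep _ hFm hFa0 (by simp [h]))
  have hsp := (span_eq hpen hFm hGm (mul_ne_zero (hne _ _) hF0) hFa0
    (fun h => mul_ne_zero (hne _ _) hG0 (hsep _ hGm h hGb0))).2
  have hAa : A.eval a = 0 := by simp [hA, zero_pow (by omega : p - e i ≠ 0)]
  have hBb : B.eval b = 0 := by simp [hB, zero_pow (by omega : p - e j ≠ 0)]
  have hAb : A.eval b ≠ 0 := by simp [hA, hGb, sub_eq_zero, hab.symm]
  have hBa : B.eval a ≠ 0 := by simp [hB, hFa, sub_eq_zero, hab]
  let W := Submodule.span k ({A, B} : Set k[X])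
  have hAW : A ∈ W := Submodule.subset_span (by simp)
  have hBW : B ∈ W := Submodule.subset_span (by simp)
  have hWmem : ∀ v ∈ W, ∃ x y : k, v = C x * A + C y * B := by
    intro v hv
    obtain ⟨x, y, rfl⟩ := Submodule.mem_span_pair.1 hv
    exact ⟨x, y, by simp [smul_eq_C_mul]⟩
  have hdeg : ∀ v ∈ V, v.natDegree ≤ d := fun v hv =>
    natDegree_le_of_degree_le (mem_degreeLE.1 (hpen.1 hv))
  have hnd : ∀ (c : k) (r : ℕ) (Q : k[X]), Q ≠ 0 → ((X - C c) ^ r * Q).natDegree = r + Q.natDegree := by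
    intro c r Q hQ
    rw [natDegree_mul (hne c r) hQ, natDegree_pow, natDegree_X_sub_C, mul_one]
  have hFd := hdeg _ hFm
  have hGd := hdeg _ hGm
  rw [hnd _ _ _ hF0] at hFd
  rw [hnd _ _ _ hG0] at hGd
  have htop : e i + F.natDegree = d ∨ e j + G.natDegree = d := by
    obtain ⟨s, hs, hsd⟩ := hpen.2.2.1
    obtain ⟨x, y, rfl⟩ := hsp s hs
    by_contra h
    push Not at h
    have h1 := natDegree_add_le (C x * ((X - C a) ^ e i * F)) (C y * ((X - C b) ^ e j * G))
    have h2 := natDegree_C_mul_le x ((X - C a) ^ e i * F)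
    have h3 := natDegree_C_mul_le y ((X - C b) ^ e j * G)
    rw [hnd _ _ _ hF0] at h2
    rw [hnd _ _ _ hG0] at h3
    omega
  have hAd : A.natDegree = p - e i + G.natDegree := hnd _ _ _ hG0
  have hBd : B.natDegree = p - e j + F.natDegree := hnd _ _ _ hF0
  have hpen' : IsPencil (d + p - e i - e j) W := by
    refine ⟨?_, ?_, ?_, fun z => ?_⟩
    · refine Submodule.span_le.2 ?_
      rintro v (rfl | rfl) <;> refine mem_degreeLE.2 (degree_le_natDegree.trans ?_)
      · exact_mod_cast (by omega : A.natDegree ≤ d + p - e i - e j)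
      · exact_mod_cast (by omega : B.natDegree ≤ d + p - e i - e j)
    · have hli : LinearIndependent k ![A, B] := by
        rw [LinearIndependent.pair_iff]
        intro x y h
        have h1 := congrArg (eval a) h
        simp [hAa, hBa] at h1
        subst h1
        simp [hA0] at h
        exact ⟨h, rfl⟩
      have := finrank_span_eq_card hli
      rw [Matrix.range_cons, Matrix.range_cons, Matrix.range_empty, Set.union_empty,
        Set.singleton_union, Fintype.card_fin] at this
      exact this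
    · rcases htop with h | h
      · exact ⟨B, hBW, by omega⟩
      · exact ⟨A, hAW, by omega⟩
    · by_cases hz : z = a
      · exact ⟨B, hBW, hz ▸ hBa⟩
      by_cases hz' : z = b
      · exact ⟨A, hAW, hz' ▸ hAb⟩
      by_contra h
      push Not at h
      have h1 := h A hAW
      have h2 := h B hBW
      simp [hA, sub_eq_zero, hz] at h1
      simp [hB, sub_eq_zero, hz'] at h2
      obtain ⟨s, hs, hsz⟩ := hpen.2.2.2 z
      obtain ⟨x, y, rfl⟩ := hsp s hs
      exact hsz (by simp [h1, h2])
  have hram' : ∀ l, HasRamIdx W (P l)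
      (Function.update (Function.update e i (p - e i)) j (p - e j) l) := by
    have hpt : ∀ (c : k) (r : ℕ) (Q R : k[X]), ((X - C c) ^ r * Q) ∈ W → R ∈ W →
        (∀ v ∈ W, ∃ x y : k, v = C x * ((X - C c) ^ r * Q) + C y * R) →
        Q.eval c ≠ 0 → R.eval c ≠ 0 → 1 ≤ r → HasRamIdx W c r := by
      intro c r Q R hm hR hall hQ hRc hr
      have hQ0 : Q ≠ 0 := fun h => hQ (by simp [h])
      have hmult : rootMultiplicity c ((X - C c) ^ r * Q) = r := by
        rw [rootMultiplicity_mul (mul_ne_zero (hne c r) hQ0), rootMultiplicity_X_sub_C_pow,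
          rootMultiplicity_eq_zero (by simpa using hQ), add_zero]
      refine ⟨⟨_, hm, mul_ne_zero (hne c r) hQ0, hmult.ge⟩, fun v hv hv0 => ?_⟩
      obtain ⟨x, y, rfl⟩ := hall v hv
      rcases eq_or_ne y 0 with rfl | hy
      · simp only [map_zero, zero_mul, add_zero] at hv0 ⊢
        rw [rootMultiplicity_mul hv0, rootMultiplicity_C, hmult, zero_add]
      · rw [rootMultiplicity_eq_zero (by simp [zero_pow (by omega : r ≠ 0), hy, hRc])]
        exact Nat.zero_le _
    intro l
    by_cases hlj : l = j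
    · subst hlj
      rw [Function.update_self]
      exact hpt b _ F A hBW hAW (fun v hv => by
        obtain ⟨x, y, rfl⟩ := hWmem v hv; exact ⟨y, x, add_comm _ _⟩) hFb hAb (by omega)
    rw [Function.update_of_ne hlj]
    by_cases hli : l = i
    · subst hli
      rw [Function.update_self]
      exact hpt a _ G B hAW hBW hWmem hGa hBa (by omega)
    rw [Function.update_of_ne hli]
    set z := P l
    have hza : z ≠ a := hP.ne hli
    have hzb : z ≠ b := hP.ne hlj
    have hel := he l
    set c := (z - a) ^ p with hc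
    set c' := (z - b) ^ p with hc'
    have hc0 : c ≠ 0 := pow_ne_zero _ (sub_ne_zero.2 hza)
    have hc0' : c' ≠ 0 := pow_ne_zero _ (sub_ne_zero.2 hzb)
    have key : ∀ (x y : k) (r : ℕ), r ≤ p →
        ((X - C z) ^ r ∣ C x * A + C y * B ↔
          (X - C z) ^ r ∣ C (y * c') * ((X - C a) ^ e i * F) + C (x * c) * ((X - C b) ^ e j * G)) := by
      intro x y r hr
      have hp1 : (X - C a) ^ p = (X - C a) ^ e i * (X - C a) ^ (p - e i) := by
        rw [← pow_add]; congr 1; omega
      have hp2 : (X - C b) ^ p = (X - C b) ^ e j * (X - C b) ^ (p - e j) := by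
        rw [← pow_add]; congr 1; omega
      have hid : (X - C a) ^ e i * (X - C b) ^ e j * (C x * A + C y * B) =
          C (y * c') * ((X - C a) ^ e i * F) + C (x * c) * ((X - C b) ^ e j * G) +
            (X - C z) ^ p * (C x * ((X - C b) ^ e j * G) + C y * ((X - C a) ^ e i * F)) := by
        have q1 := dvd_add_C_mul_pow (p := p) a z
        have q2 := dvd_add_C_mul_pow (p := p) b z
        rw [hp1, ← hc] at q1
        rw [hp2, ← hc'] at q2
        rw [hA, hB, map_mul, map_mul]
        linear_combination (C x * (X - C b) ^ e j * G) * q1 + (C y * (X - C a) ^ e i * F) * q2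
      have hcop : IsCoprime ((X - C z) ^ r) ((X - C a) ^ e i * (X - C b) ^ e j) :=
        IsCoprime.mul_right
          ((isCoprime_X_sub_C_of_isUnit_sub (sub_ne_zero.2 hza).isUnit).pow)
          ((isCoprime_X_sub_C_of_isUnit_sub (sub_ne_zero.2 hzb).isUnit).pow)
      have hrest := (pow_dvd_pow (X - C z) hr).mul_right
        (C x * ((X - C b) ^ e j * G) + C y * ((X - C a) ^ e i * F))
      have h := dvd_add_left (b := C (y * c') * ((X - C a) ^ e i * F) +
        C (x * c) * ((X - C b) ^ e j * G)) hrest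
      rw [← hid] at h
      exact ⟨fun hq => h.1 (hq.mul_left _), fun hs => hcop.dvd_of_dvd_mul_left (h.2 hs)⟩
    constructor
    · obtain ⟨⟨s, hs, hs0, hle⟩, -⟩ := hram l
      obtain ⟨x, y, rfl⟩ := hsp s hs
      refine ⟨C (y / c) * A + C (x / c') * B, ?_, ?_, ?_⟩
      · rw [← smul_eq_C_mul, ← smul_eq_C_mul]
        exact add_mem (Submodule.smul_mem _ _ hAW) (Submodule.smul_mem _ _ hBW)
      · intro h
        apply hs0
        have h1 := congrArg (eval a) h
        have h2 := congrArg (eval b) h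
        simp [hAa, hBa, hc0'] at h1
        simp [hBb, hAb, hc0] at h2
        simp [h1, h2]
      · rw [le_rootMultiplicity_iff (by
          intro h
          apply hs0
          have h1 := congrArg (eval a) h
          have h2 := congrArg (eval b) h
          simp [hAa, hBa, hc0'] at h1
          simp [hBb, hAb, hc0] at h2
          simp [h1, h2]), key _ _ _ hel.2.le, div_mul_cancel₀ _ hc0', div_mul_cancel₀ _ hc0]
        exact (le_rootMultiplicity_iff hs0).1 hle
    · intro v hv hv0
      obtain ⟨x, y, rfl⟩ := hWmem v hv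
      by_contra h
      have h1 := (le_rootMultiplicity_iff hv0).1 (not_le.1 h : e l < _)
      rw [key _ _ _ (by omega)] at h1
      have hs0 : C (y * c') * ((X - C a) ^ e i * F) + C (x * c) * ((X - C b) ^ e j * G) ≠ 0 := by
        intro h0
        apply hv0
        have g1 := congrArg (eval a) h0
        have g2 := congrArg (eval b) h0
        simp [hFa0, hc0, sub_eq_zero, hab, hGa, zero_pow (by omega : e i ≠ 0)] at g1
        simp [hc0', sub_eq_zero, hab.symm, hFb, zero_pow (by omega : e j ≠ 0)] at g2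
        simp [g1, g2]
      have hsV : C (y * c') * ((X - C a) ^ e i * F) + C (x * c) * ((X - C b) ^ e j * G) ∈ V := by
        rw [← smul_eq_C_mul, ← smul_eq_C_mul]
        exact add_mem (V.smul_mem _ hFm) (V.smul_mem _ hGm)
      have h2 : rootMultiplicity z _ ≤ e l := (hram l).2 _ hsV hs0
      have h3 := (le_rootMultiplicity_iff hs0).2 h1
      omega
  refine ⟨W, ⟨F, G, (span_eq hpen hFm hGm (mul_ne_zero (hne _ _) hF0) hFa0
    (fun h => mul_ne_zero (hne _ _) hG0 (hsep _ hGm h hGb0))).1.symm, rfl⟩, hpen', ?_, hram'⟩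
  refine ⟨A, hAW, B, hBW, fun h => ?_⟩
  set r := p - e i with hr
  have hd : derivative A = C (r : k) * (X - C a) ^ (r - 1) * G + (X - C a) ^ r * derivative G := by
    rw [hA, derivative_mul, derivative_pow, derivative_X_sub_C, mul_one]
  have hpow : (X - C a) ^ r = (X - C a) ^ (r - 1) * (X - C a) := by
    rw [← pow_succ]; congr 1; omega
  have h0 : (X - C a) ^ (r - 1) * ((X - C a) * (G * derivative B - derivative G * B) -
      C (r : k) * G * B) = 0 := by
    rw [← h, wronskian, hd, hA, hpow]; ring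
  have h1 := congrArg (eval a) ((mul_eq_zero.1 h0).resolve_left (hne _ _))
  simp [hGa, hBa] at h1
  rw [CharP.cast_eq_zero_iff k p] at h1
  have := Nat.le_of_dvd (by omega) h1
  omega

end Groth.Agent.Ram9
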